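import Groth.Agent.BunMod.K596.Iface
import Groth.Agent.BunMod.K231.AvPic
import Groth.Agent.BunMod.K231.Mul
import Groth.Agent.ASBun.K791.Tens
import Groth.Agent.VBPn.K700.HDim
import Groth.Agent.VarietyA.EulerFinite
import Groth.Agent.S1842
import Groth.Agent.S7859
import Groth.Agent.S2327
import Groth.Agent.AbVar.K506.TauInv
import Groth.Agent.Fga.IntAdd
import Groth.Agent.S0002
import Groth.Agent.AdjLin.K800.HomDim
import Groth.Agent.Curves.K333.InvEpi
import Groth.Agent.Pic13.H138.AlgEquiv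
import Groth.Agent.Sga67.LocBasisOps
import Groth.Agent.Ega2.GlobGenCrit
import Groth.Agent.Models2.AmplePull

/-!
# Sections and global generation of the Verlinde bundles on the Jacobian

* `h0_of_verD`     : `h^0(J, E) r^g = v m^g`.
* `it0_tensor_inv` : `E ⊗ L⁻¹` has index `0` when `m > r`.
* `gg_of_verD`     : `E` is globally generated when `m > r` (Pareschi's criterion as a hypothesis).
* `iso_of_gg`, `euler_pull`, `pull_torsion`, `isAlgEquivZero_one`, `isAlgEquivZero_tensor`.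
-/

set_option autoImplicit false
universe u
open CategoryTheory CategoryTheory.Limits AlgebraicGeometry MonoidalCategory CartesianMonoidalCategory
open scoped MonObj
open Groth.Agent Groth.Agent.BunMod.K596 ASBun.K791.Tens
open Groth.Agent.Grpsch.PicGrp Groth.Agent.Fdesc.LocGen Groth.Agent.Pic13.H138.AlgEquiv

namespace K808.Verl

noncomputable section

variable {k : Type u} [Field k]

section Gen

variable {X : Scheme.{u}} [X.Over (Spec (CommRingCat.of k))]

attribute [local instance] CurvesC.LinMod.linearModules in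
/-- A globally generated invertible module with a one-dimensional space of sections is trivial. -/
theorem iso_of_gg {M : X.Modules} (hM : PicF.IsInvertible M)
    (hg : Curv2.IsGloballyGenerated M) (h1 : Module.finrank k (Coh.HH X M 0) = 1) :
    Nonempty (Coh.structureModule X ≅ M) := by
  obtain ⟨κ, p, hp⟩ := hg
  have h1' : Module.finrank k (Coh.structureModule X ⟶ M) = 1 := (K800.HomDim.secHom k M).finrank_eq.trans h1
  obtain ⟨s, hs0, hs⟩ := finrank_eq_one_iff'.mp h1'
  choose c hc using hs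
  let j (i : κ) : Coh.structureModule X ⟶ (SheafOfModules.free κ : X.Modules) :=
    (Sigma.ι (fun _ : κ => Coh.structureModule X) i : Coh.structureModule X ⟶ (∐ fun _ : κ => Coh.structureModule X))
  let q : (SheafOfModules.free κ : X.Modules) ⟶ Coh.structureModule X :=
    Ega2.GlobGenCrit.desc fun i => c (j i ≫ p) • 𝟙 (Coh.structureModule X)
  have hq : q ≫ s = p := by
    refine @Sigma.hom_ext κ X.Modules _ (fun _ => Coh.structureModule X) _ M (q ≫ s) p (fun i => ?_)
    have h2 : j i ≫ q = c (j i ≫ p) • 𝟙 (Coh.structureModule X) :=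
      (Ega2.GlobGenCrit.ι_desc (fun i => c (j i ≫ p) • 𝟙 (Coh.structureModule X)) i).symm
    have h3 : (j i ≫ q) ≫ s = j i ≫ p := by
      rw [h2, Linear.smul_comp, Category.id_comp]
      exact hc _
    exact (Category.assoc (obj := X.Modules) _ _ _).symm.trans h3
  have : Epi s := @epi_of_epi_fac X.Modules _ _ _ _ q s p hp hq
  have := K333.InvEpi.isIso_of_epi isInvertible_structureModule hM s
  exact ⟨asIso s⟩

theorem isGloballyGenerated_of_epi {F G : X.Modules} (f : F ⟶ G) [Epi f] (h : Curv2.IsGloballyGenerated F) :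
    Curv2.IsGloballyGenerated G := by
  obtain ⟨κ, p, hp⟩ := h
  exact ⟨κ, p ≫ f, @epi_comp X.Modules _ _ _ _ p hp f inferInstance⟩

end Gen

section Main

variable [IsAlgClosed k] {J : Over (Spec (CommRingCat.of k))} {L : J.left.Modules} {g : ℕ}

/-- The trivial class is algebraically equivalent to zero. -/
theorem isAlgEquivZero_one : @Pic13.IsAlgEquivZero k _ J.left ⟨J.hom⟩ (Coh.structureModule J.left) := by
  letI : J.left.Over (Spec (CommRingCat.of k)) := ⟨J.hom⟩
  exact (isAlgEquivZero_iff_mem (k := k) isInvertible_structureModule).2 (one_mem _)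

theorem isAlgEquivZero_tensor {α β : J.left.Modules} (hα : PicF.IsInvertible α) (hβ : PicF.IsInvertible β)
    (h1 : @Pic13.IsAlgEquivZero k _ J.left ⟨J.hom⟩ α) (h2 : @Pic13.IsAlgEquivZero k _ J.left ⟨J.hom⟩ β) :
    @Pic13.IsAlgEquivZero k _ J.left ⟨J.hom⟩ (CohB1.tensorMod α β) := by
  letI : J.left.Over (Spec (CommRingCat.of k)) := ⟨J.hom⟩
  exact (isAlgEquivZero_iff_mem (k := k) (isInvertible_tensorMod hα hβ)).2
    (mul_mem ((isAlgEquivZero_iff_mem (k := k) hα).1 h1) ((isAlgEquivZero_iff_mem (k := k) hβ).1 h2))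

/-- Index `0` gives vanishing of higher cohomology. -/
theorem IT0.vanish {E : J.left.Modules} (h : IT0 J E) (i : ℕ) (hi : 0 < i) : Subsingleton (Coh.HH J.left E i) :=
  Fga.HShift.subsingleton_of_iso (tensRUnit E) i (h _ isInvertible_structureModule isAlgEquivZero_one i hi)

variable [GrpObj J] [CharZero k]

omit [CharZero k] in
theorem vanish_of_ample (hJ : PPAV g J L) {B : J.left.Modules} (hB : CohB1.IsAmple B) (i : ℕ) (hi : 0 < i) :
    Subsingleton (Coh.HH J.left B i) :=
  IT0.vanish (K231.AvPic.it0_of_ample hJ B hB) i hi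

omit [IsAlgClosed k] [CharZero k] in
theorem isAmple_pow (hJ : PPAV g J L) {n : ℕ} (hn : 1 ≤ n) : CohB1.IsAmple (CohB1.tensorPow L n) := by
  have := hJ.proper
  have : CompactSpace J.left := QuasiCompact.compactSpace_of_compactSpace J.hom
  have : J.left.IsSeparated := ⟨by
    rw [← terminal.comp_from J.hom]
    infer_instance⟩
  exact (S2327.result J.left L hJ.inv n hn).1 hJ.ample

omit [IsAlgClosed k] [CharZero k] in
/-- `χ(J, [r]^* E) = r^(2g) χ(J, E)`. -/
theorem euler_pull (hJ : PPAV g J L) {r : ℕ} (hr : 1 ≤ r) {E : J.left.Modules} (hE : Coh.IsCoh E) :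
    @Curv2.euler k _ J.left ⟨J.hom⟩ ((Scheme.Modules.pullback ((𝟙 J) ^ r : J ⟶ J).left).obj E) =
      ((r ^ (2 * g) : ℕ) : ℤ) * @Curv2.euler k _ J.left ⟨J.hom⟩ E := by
  have := hJ.proper
  have := hJ.gint
  obtain ⟨h1, h2, h3⟩ := S1842.pos_case k J g hJ.dim r hr
  exact S7859.result k J J ((𝟙 J) ^ r) (r ^ (2 * g)) h3 E hE

/-- F3. `h^0(J, E) r^g = v m^g`. -/
theorem h0_of_verD (hJ : PPAV g J L) {r m v : ℕ} (hr : 1 ≤ r) (hm : 1 ≤ m) {E : J.left.Modules}
    (hE : VerD J L r m v E) :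
    @Module.finrank k (Coh.HH J.left E 0) _ _ (@Coh.moduleOver k _ J.left ⟨J.hom⟩ E 0) * r ^ g = v * m ^ g := by
  letI : J.left.Over (Spec (CommRingCat.of k)) := ⟨J.hom⟩
  have hpr := hJ.proper
  have hpr' : IsProper (J.left ↘ Spec (CommRingCat.of k)) := hJ.proper
  obtain ⟨e⟩ := hE.iso
  have hrm : 1 ≤ r * m := Nat.mul_pos hr hm
  have hE0 := IT0.vanish (K231.Mul.it0_of_verD hJ hr hm hE)
  have hP0 : ∀ i, 0 < i → Subsingleton (Coh.HH J.left
      ((Scheme.Modules.pullback ((𝟙 J) ^ r : J ⟶ J).left).obj E) i) := fun i hi =>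
    Fga.HShift.subsingleton_of_iso e.symm i (Fga.HShift.subsingleton_coproduct _ i fun _ =>
      vanish_of_ample hJ (isAmple_pow hJ hrm) i hi)
  have h1 := euler_pull hJ hr (PerfA.CohSerre.isCoh_of_isFinLocFree hE.locFree)
  rw [VarietyA.EulerFinite.euler_eq_of_vanish k _ _ hE0, VarietyA.EulerFinite.euler_eq_of_vanish k _ _ hP0] at h1
  have hfin : Module.Finite k (Coh.HH J.left (CohB1.tensorPow L (r * m)) 0) :=
    S0002.result k J.left _ (PerfA.CohSerre.isCoh_of_isFinLocFree (Grpsch.CubeClosed.isFinLocFree_of_isInvertible (isInvertible_tensorPow hJ.inv _))) 0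
  have h2 := K700.HDim.fr_sigma_const k e 0
  have h3 := hJ.h0 (r * m) hrm
  change Module.finrank k _ = v * Module.finrank k (Coh.HH J.left (CohB1.tensorPow L (r * m)) 0) at h2
  rw [h3] at h2
  rw [h2] at h1
  have h4 : v * (r * m) ^ g = r ^ (2 * g) * Module.finrank k (Coh.HH J.left E 0) := by exact_mod_cast h1
  have h5 : r ^ g * (Module.finrank k (Coh.HH J.left E 0) * r ^ g) = r ^ g * (v * m ^ g) := by
    rw [mul_pow] at h4
    rw [two_mul, pow_add] at h4
    linarith [h4]
  exact Nat.eq_of_mul_eq_mul_left (pow_pos hr g) h5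

/-- F3. `E ⊗ L⁻¹` has index `0` when `m > r`. -/
theorem it0_tensor_inv (hJ : PPAV g J L) {r m v : ℕ} (hr : 1 ≤ r) (hm : r + 1 ≤ m) {E : J.left.Modules}
    (hE : VerD J L r m v E) (L' : J.left.Modules) (hL' : Nonempty (CohB1.tensorMod L L' ≅ Coh.structureModule J.left)) :
    IT0 J (CohB1.tensorMod E L') := by
  intro α hα hα0 i hi
  have hLi := hJ.inv
  obtain ⟨eL⟩ := hL'
  have hL'i : PicF.IsInvertible L' := Fga.IntAdd.isInvertible_of_tensor eL
  have hlf : FlatMod.IsFinLocFree (CohB1.tensorMod (CohB1.tensorMod E L') α) :=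
    Sga67.LocBasis.isFinLocFree_tensorMod (Sga67.LocBasis.isFinLocFree_tensorMod hE.locFree
      (Grpsch.CubeClosed.isFinLocFree_of_isInvertible hL'i)) (Grpsch.CubeClosed.isFinLocFree_of_isInvertible hα)
  refine K231.Mul.subsingleton_of_pullback hJ hr _ hlf i ?_
  obtain ⟨e⟩ := hE.iso
  obtain ⟨P₀, hP₀, hP₀0, ⟨e'⟩⟩ := K231.AvPic.pullback_eq hJ r L' hL'i
  have hα' := K231.AvPic.algEquivZero_pullback hJ r α hα hα0
  have hαi' : PicF.IsInvertible ((Scheme.Modules.pullback ((𝟙 J) ^ r : J ⟶ J).left).obj α) :=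
    isInvertible_pullback _ hα
  have hβ : PicF.IsInvertible (CohB1.tensorMod P₀ ((Scheme.Modules.pullback ((𝟙 J) ^ r : J ⟶ J).left).obj α)) :=
    isInvertible_tensorMod hP₀ hαi'
  have hβ0 := isAlgEquivZero_tensor hP₀ hαi' hP₀0 hα'
  have hlt : r ^ 2 < r * m := by nlinarith
  obtain ⟨n, hn1, hn⟩ : ∃ n, 1 ≤ n ∧ r * m = r ^ 2 + n := ⟨r * m - r ^ 2, by omega, by omega⟩
  -- the line bundle
  have key : Nonempty (CohB1.tensorMod (CohB1.tensorMod (CohB1.tensorPow L (r * m))
      ((Scheme.Modules.pullback ((𝟙 J) ^ r : J ⟶ J).left).obj L'))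
      ((Scheme.Modules.pullback ((𝟙 J) ^ r : J ⟶ J).left).obj α) ≅
      CohB1.tensorMod (CohB1.tensorPow L n)
        (CohB1.tensorMod P₀ ((Scheme.Modules.pullback ((𝟙 J) ^ r : J ⟶ J).left).obj α))) := by
    have h1 := (mk_eq_iff (isInvertible_pullback ((𝟙 J) ^ r : J ⟶ J).left hL'i)
      (isInvertible_tensorMod (isInvertible_tensorPow hL'i _) hP₀)).2 ⟨e'⟩
    have h2 : mk L hLi * mk L' hL'i = 1 := (mk_eq_one_iff _).2 ⟨eL⟩
    rw [← mk_eq_iff (isInvertible_tensorMod (isInvertible_tensorMod (isInvertible_tensorPow hLi _)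
      (isInvertible_pullback _ hL'i)) hαi') (isInvertible_tensorMod (isInvertible_tensorPow hLi _) hβ),
      ← mk_mul_mk (isInvertible_tensorMod (isInvertible_tensorPow hLi _) (isInvertible_pullback _ hL'i)) hαi',
      ← mk_mul_mk (isInvertible_tensorPow hLi _) (isInvertible_pullback _ hL'i), h1,
      ← mk_mul_mk (isInvertible_tensorPow hLi _) hβ, ← mk_mul_mk hP₀ hαi',
      ← mk_mul_mk (isInvertible_tensorPow hL'i _) hP₀, mk_tensorPow hLi, mk_tensorPow hLi, mk_tensorPow hL'i, hn,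
      pow_add]
    calc mk L hLi ^ r ^ 2 * mk L hLi ^ n * (mk L' hL'i ^ r ^ 2 * mk P₀ hP₀) * mk _ hαi'
        = (mk L hLi * mk L' hL'i) ^ r ^ 2 * (mk L hLi ^ n * (mk P₀ hP₀ * mk _ hαi')) := by
          rw [mul_pow]
          simp only [mul_assoc, mul_comm, mul_left_comm]
      _ = _ := by rw [h2, one_pow, one_mul]
  obtain ⟨e2⟩ := key
  refine Fga.HShift.subsingleton_of_iso ((pullTens _ _ _ ≪≫ tensMap (pullTens _ _ _ ≪≫
    tensMap e (Iso.refl _) ≪≫ coprodTens _ _) (Iso.refl _) ≪≫ coprodTens _ _).symm) i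
    (Fga.HShift.subsingleton_coproduct _ i fun _ => ?_)
  exact Fga.HShift.subsingleton_of_iso e2.symm i (K231.AvPic.it0_of_ample hJ _ (isAmple_pow hJ hn1) _ hβ hβ0 i hi)

/-- F3. `S16929` on `J`. -/
theorem gg_of_verD (hJ : PPAV g J L) (hcrit : Criterion J) {r m v : ℕ} (hr : 1 ≤ r) (hm : r + 1 ≤ m)
    {E : J.left.Modules} (hE : VerD J L r m v E) : Curv2.IsGloballyGenerated E := by
  obtain ⟨L', hL', e⟩ := exists_inverse hJ.inv
  have h1 := hcrit (CohB1.tensorMod E L')
    (Sga67.LocBasis.isFinLocFree_tensorMod hE.locFree (Grpsch.CubeClosed.isFinLocFree_of_isInvertible hL'))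
    (it0_tensor_inv hJ hr hm hE L' e) L hJ.ample
  obtain ⟨e⟩ := e
  exact Ega2.GlobGenCrit.isGloballyGenerated_of_iso
    (tensAssoc _ _ _ ≪≫ tensMap (Iso.refl E) (tensComm _ _ ≪≫ e) ≪≫ tensRUnit E) h1

omit [CharZero k] in
/-- The pullback of a class killed by `r` along `[r]` is trivial. -/
theorem pull_torsion (hJ : PPAV g J L) {r : ℕ} (hr : 1 ≤ r) {P : J.left.Modules} (hP : PicF.IsInvertible P)
    (h : Nonempty (CohB1.tensorPow P r ≅ Coh.structureModule J.left)) :
    Nonempty ((Scheme.Modules.pullback ((𝟙 J) ^ r : J ⟶ J).left).obj P ≅ Coh.structureModule J.left) := by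
  have := hJ.proper
  have := hJ.gint
  have h1 : mk P hP ^ r = 1 := by
    rw [← mk_tensorPow hP r]
    exact (mk_eq_one_iff _).2 h
  have h2 : K506.Transl.Inv (mk P hP) := K506.TauInv.inv_of_inv_pow r hr (by
    rw [h1]
    exact K506.Transl.Inv.one)
  have h3 : ∀ n : ℕ, Grpsch.Cube.pl ((𝟙 J) ^ n) (mk P hP) = mk P hP ^ n := by
    intro n
    induction n with
    | zero =>
      rw [pow_zero, pow_zero]
      exact Grpsch.Cube.pl_one _
    | succ n ih =>
      rw [pow_succ, K506.Transl.pl_mul_of_inv h2, ih, pow_succ]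
      congr 1
      exact pull_id _
  refine (mk_eq_one_iff (isInvertible_pullback _ hP)).1 ?_
  rw [← pull_mk _ hP]
  exact (h3 r).trans h1

end Main

end

end K808.Verl
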