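import Groth.Agent.BunMod.K808.Verl
import Groth.Agent.BunMod.K231.Sum

/-!
# The Verlinde bundle of level equal to the rank is not globally generated
-/

set_option autoImplicit false
universe u
open CategoryTheory CategoryTheory.Limits AlgebraicGeometry MonoidalCategory CartesianMonoidalCategory
open scoped MonObj
open Groth.Agent Groth.Agent.BunMod.K596 ASBun.K791.Tens
open Groth.Agent.Grpsch.PicGrp Groth.Agent.Fdesc.LocGen Groth.Agent.Pic13.H138.AlgEquiv

namespace K808.NotGG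

noncomputable section

open K808.Verl

variable {k : Type u} [Field k] [IsAlgClosed k] [CharZero k]
  {J : Over (Spec (CommRingCat.of k))} [GrpObj J] {L : J.left.Modules} {g : ℕ}

/-- F3. `S19872` on `J`. -/
theorem not_gg_of_verD (hJ : PPAV g J L) (hg : 1 ≤ g) (hs : Sym J L) {r v : ℕ} (hr : 1 ≤ r)
    {E : J.left.Modules} (hE : VerD J L r r v E) : ¬ Curv2.IsGloballyGenerated E := by
  intro hgg
  letI : J.left.Over (Spec (CommRingCat.of k)) := ⟨J.hom⟩
  have hE' : VerD J L r (1 * r) v E := by rwa [one_mul]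
  obtain ⟨s, P, hP, ⟨e⟩⟩ := K231.Sum.sum_of_verD hJ hs hr le_rfl hE'
  have hrr : 1 ≤ r * r := Nat.mul_pos hr hr
  -- `E` is not zero
  have hs0 : 0 < s := by
    by_contra hs0
    obtain rfl : s = 0 := by omega
    have hz : IsZero (∐ fun i : Fin 0 => CohB1.tensorMod (CohB1.tensorPow L 1) (P i)) :=
      Fga.HShift.isZero_coproduct _ fun i => i.elim0
    have hz2 : IsZero ((Scheme.Modules.pullback ((𝟙 J) ^ r : J ⟶ J).left).obj E) :=
      Functor.map_isZero _ (hz.of_iso e)
    obtain ⟨e'⟩ := hE.iso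
    have hz3 := hz2.of_iso e'.symm
    have hz4 : IsZero (CohB1.tensorPow L (r * r)) := by
      refine (IsZero.iff_id_eq_zero _).2 ?_
      have h1 : Sigma.ι (fun _ : Fin v => CohB1.tensorPow L (r * r)) ⟨0, hE.pos⟩ ≫
          Sigma.desc (fun _ => 𝟙 (CohB1.tensorPow L (r * r))) = 𝟙 _ := Sigma.ι_desc _ _
      rw [← h1, hz3.eq_zero_of_tgt (Sigma.ι _ _), zero_comp]
    have h1 := hJ.h0 (r * r) hrr
    have h2 := Fga.HShift.subsingleton_of_isZero hz4 0
    rw [Module.finrank_zero_of_subsingleton] at h1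
    exact absurd h1.symm (pow_ne_zero _ (by omega))
  let i₀ : Fin s := ⟨0, hs0⟩
  obtain ⟨hPi, hPr⟩ := hP i₀
  let M := CohB1.tensorMod (CohB1.tensorPow L 1) (P i₀)
  have hL1 : PicF.IsInvertible (CohB1.tensorPow L 1) := isInvertible_tensorPow hJ.inv 1
  have hM : PicF.IsInvertible M := isInvertible_tensorMod hL1 hPi
  -- `M` is globally generated
  have hMgg : Curv2.IsGloballyGenerated M := by
    classical
    let q : (∐ fun i : Fin s => CohB1.tensorMod (CohB1.tensorPow L 1) (P i)) ⟶ M :=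
      Sigma.desc fun i => if h : i = i₀ then eqToHom (by rw [h]) else 0
    have hq : Sigma.ι (fun i : Fin s => CohB1.tensorMod (CohB1.tensorPow L 1) (P i)) i₀ ≫ q = 𝟙 M := by
      rw [Sigma.ι_desc, dif_pos rfl, eqToHom_refl]
    have : Epi q := (SplitEpi.mk _ hq).epi
    exact isGloballyGenerated_of_epi q (Ega2.GlobGenCrit.isGloballyGenerated_of_iso e hgg)
  -- `M` is a Verlinde datum with `v = 1`
  have hMV : VerD J L r r 1 M := by
    refine ⟨Grpsch.CubeClosed.isFinLocFree_of_isInvertible hM, one_pos, ?_⟩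
    obtain ⟨e1⟩ := K231.AvPic.pullback_eq_of_sym hJ r L hJ.inv hs
    obtain ⟨e2⟩ := pull_torsion hJ hr hPi hPr
    have e3 : CohB1.tensorPow L 1 ≅ L := Ega2.Tens.lunit L
    have e4 : (∐ fun _ : Fin 1 => CohB1.tensorPow L (r * r)) ≅ CohB1.tensorPow L (r * r) :=
      coproductUniqueIso _
    rw [← sq] at e4 ⊢
    exact ⟨pullTens _ _ _ ≪≫ tensMap ((Scheme.Modules.pullback _).mapIso e3 ≪≫ e1) e2 ≪≫ tensRUnit _ ≪≫ e4.symm⟩
  have h1 := h0_of_verD hJ hr hr hMV
  rw [one_mul] at h1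
  have h2 : Module.finrank k (Coh.HH J.left M 0) = 1 := by
    have h3 : 0 < r ^ g := pow_pos hr g
    exact Nat.eq_of_mul_eq_mul_right h3 (h1.trans (one_mul _).symm)
  obtain ⟨e5⟩ := iso_of_gg hM hMgg h2
  -- `L^r` is trivial
  have h4 : mk L hJ.inv ^ r = 1 := by
    have h5 : mk M hM = 1 := (mk_eq_one_iff hM).2 ⟨e5.symm⟩
    have h6 : mk M hM = mk L hJ.inv * mk (P i₀) hPi := by
      change mk _ _ = _
      rw [← mk_mul_mk hL1 hPi, mk_tensorPow hJ.inv, pow_one]
    have h7 : mk (P i₀) hPi ^ r = 1 := by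
      rw [← mk_tensorPow hPi r]
      exact (mk_eq_one_iff _).2 hPr
    rw [h6] at h5
    have h8 := congrArg (· ^ r) h5
    simpa only [mul_pow, h7, mul_one, one_pow] using h8
  have h9 : Nonempty (CohB1.tensorPow L r ≅ CohB1.tensorPow L (2 * r)) := by
    rw [← mk_eq_iff (isInvertible_tensorPow hJ.inv _) (isInvertible_tensorPow hJ.inv _), mk_tensorPow hJ.inv,
      mk_tensorPow hJ.inv, two_mul, pow_add, h4, one_mul]
  obtain ⟨e6⟩ := h9
  have h10 := K700.HDim.fr_iso k e6 0
  have h11 := hJ.h0 r hr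
  have h12 := hJ.h0 (2 * r) (by omega)
  have h13 : r ^ g = (2 * r) ^ g := h11.symm.trans (h10.trans h12)
  have h14 : r ^ g < (2 * r) ^ g := Nat.pow_lt_pow_left (by omega) (by omega)
  omega

end

end K808.NotGG
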