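import Groth.Agent.BunMod.K319.Core
import Groth.Agent.BunMod.K596.Iface
import Groth.Agent.Sga2lef.H83.Frame
import Groth.Agent.Krr.H455.RelCast
import Groth.Agent.Grpsch.MulFin

/-!
# The last step of the structure theorem: see-saw on `M₀ × J`

`q : M₀ × J ⟶ M` lies over `[r] : J ⟶ J`, `Θ` is an invertible module on `M` inverse to an ideal, and `q^* Θ`
restricts to `L^r` on `{z} × J` for the points `z` of `M₀`.

* `exists_iso`: `q^* Θ ≅ A ⊠ L^r`, `A` the restriction of `q^* Θ` to `M₀ × {x}` for any point `x`.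
* `exists_sec`: `A` has a nonzero section.
* `str`: the interface structure `Str`; `str_of_lnk`: the same with a hypothesis on one point `z₀`, the points of `M₀`
  being linked to it.
-/

set_option autoImplicit false
universe u
open CategoryTheory CategoryTheory.Limits AlgebraicGeometry MonoidalCategory CartesianMonoidalCategory TopologicalSpace
open scoped MonObj
open Groth.Agent Groth.Agent.BunMod.K596 Groth.Agent.Grpsch.PicGrp Groth.Agent.Grpsch.Cube
open Groth.Agent.Fdesc.LocGen K518.Phi K319.Seesaw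

namespace K808.Seesaw

noncomputable section

section sec

variable {Y Z : Scheme.{u}}

/-- A module inverse to an ideal has a section generating it over a nonempty open. -/
theorem exists_section {Θ : Y.Modules} {I : Y.IdealSheafData} (h : ClSub.IsInverseOf Θ (ClSub.idealMod I)) (y : Y) :
    ∃ (σ : Coh.structureModule Y ⟶ Θ), (CohB1.genLocus Θ σ : Set Y).Nonempty := by
  obtain ⟨σ, hσ⟩ := Sga2lef.H83.Frame.exists_section h
  obtain ⟨V, e, f, hy, -, hf⟩ := hσ ⊤ y trivial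
  have h1 := genLocus_inf_eq σ hf.gen hf.eq
  have h2 : Y.basicOpen f ≠ ⊥ := by
    intro h0
    have hn := (AlgebraicGeometry.Scheme.isNilpotent_iff_basicOpen_eq_bot_of_isCompact V.2.isCompact f).2 h0
    obtain ⟨n, hn⟩ := hn
    have h3 : (0 : Γ(Y, V.1)) ∈ nonZeroDivisors Γ(Y, V.1) := hn ▸ pow_mem hf.nonZeroDivisor n
    have h4 : Nontrivial Γ(Y, V.1) := by
      have : Nonempty V.1 := ⟨⟨y, hy⟩⟩
      infer_instance
    exact (zero_notMem_nonZeroDivisors h3)
  obtain ⟨w, hw⟩ := (Opens.ne_bot_iff_nonempty _).1 h2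
  exact ⟨σ, w, ((h1 ▸ hw : w ∈ CohB1.genLocus Θ σ ⊓ V.1)).1⟩

/-- The structure module of a nonempty open subscheme is not zero. -/
theorem not_isZero_restrict (U : Z.Opens) (z : Z) (hz : z ∈ U) :
    ¬ IsZero ((Scheme.Modules.restrictFunctor U.ι).obj (Coh.structureModule Z)) := by
  intro h
  have h1 : (1 : Γ(Z, U.ι ''ᵁ ⊤)) = 0 := by
    have h2 := congrArg (fun φ : (Scheme.Modules.restrictFunctor U.ι).obj (Coh.structureModule Z) ⟶ _ =>
      φ.app ⊤ (show Γ((Scheme.Modules.restrictFunctor U.ι).obj (Coh.structureModule Z), ⊤) from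
        (1 : Γ(Z, U.ι ''ᵁ ⊤)))) ((IsZero.iff_id_eq_zero _).1 h)
    exact h2
  have h3 : z ∈ U.ι ''ᵁ ⊤ := by simpa using hz
  have : Nonempty (U.ι ''ᵁ ⊤ : Z.Opens) := ⟨⟨z, h3⟩⟩
  exact one_ne_zero h1

/-- The pull back of a section along a morphism meeting its generating locus is not zero. -/
theorem map_ne_zero (h : Z ⟶ Y) {Θ : Y.Modules} (σ : Coh.structureModule Y ⟶ Θ) (z : Z)
    (hz : h z ∈ CohB1.genLocus Θ σ) : (Scheme.Modules.pullback h).map σ ≠ 0 := by
  intro h0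
  have h1 := (isIso_restrict_iff σ (CohB1.genLocus Θ σ)).2 (isGen_sec_genLocus σ)
  have h2 := Krr.H455.RelCast.isIso_restrict_pullback h σ _ h1
  rw [h0, Functor.map_zero] at h2
  have h3 : IsZero ((Scheme.Modules.restrictFunctor (h ⁻¹ᵁ CohB1.genLocus Θ σ).ι).obj
      ((Scheme.Modules.pullback h).obj (Coh.structureModule Y))) :=
    (IsZero.iff_id_eq_zero _).2 (isIsoZeroEquiv _ _ h2).1
  refine not_isZero_restrict (h ⁻¹ᵁ CohB1.genLocus Θ σ) z hz (h3.of_iso ?_)
  exact (Scheme.Modules.restrictFunctor _).mapIso (Fga.UnitRestrict.pullbackUnitIso h).symm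

/-- A nonzero section of the pull back. -/
theorem exists_sec_pullback (h : Z ⟶ Y) {Θ : Y.Modules} (σ : Coh.structureModule Y ⟶ Θ) (z : Z)
    (hz : h z ∈ CohB1.genLocus Θ σ) :
    ∃ s : Coh.structureModule Z ⟶ (Scheme.Modules.pullback h).obj Θ, s ≠ 0 := by
  refine ⟨(Fga.UnitRestrict.pullbackUnitIso h).inv ≫ (Scheme.Modules.pullback h).map σ, fun h0 => map_ne_zero h σ z hz ?_⟩
  rwa [← cancel_epi (Fga.UnitRestrict.pullbackUnitIso h).inv, comp_zero]

end sec

section main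

variable {k : Type u} [Field k] [IsAlgClosed k] {J M M₀ : Over (Spec (CommRingCat.of k))} (q : M₀ ⊗ J ⟶ M)

/-- The slice `M₀ × {x} ⟶ M`. -/
abbrev sl (x : Pt J) : M₀ ⟶ M := lift (𝟙 M₀) (toUnit M₀ ≫ x) ≫ q

/-- The slice `{z} × J ⟶ M`. -/
abbrev sr (z : Pt M₀) : J ⟶ M := lift (toUnit J ≫ z) (𝟙 J) ≫ q

variable [IsProper J.hom] [GeometricallyIntegral J.hom] [IsProper M₀.hom] [GeometricallyIntegral M₀.hom]

section seesaw

/-- See-saw, in the Picard group. -/
theorem pl_q (θ : Pic M.left) (θJ : Pic J.left) (hfib : ∀ z : Pt M₀, pl (sr q z) θ = θJ) (x : Pt J) :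
    pl q θ = pl (fst M₀ J) (pl (sl q x) θ) * pl (snd M₀ J) θJ := by
  have hint := K319.Core.isIntegral_left M₀
  obtain ⟨d, hd⟩ := exists_pl_fst (A := M₀) (B := J) (pl q θ * (pl (snd M₀ J) θJ)⁻¹) fun w => by
    rw [map_mul, map_inv, ← pl_comp, ← pl_comp, lift_snd, pl_id]
    have := hfib w
    rw [this, mul_inv_cancel]
  have h1 := congrArg (pl (lift (𝟙 M₀) (toUnit M₀ ≫ x))) hd
  rw [← pl_comp, lift_fst, pl_id, map_mul, map_inv, ← pl_comp, ← pl_comp, lift_snd, pl_const, inv_one, mul_one] at h1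
  rw [← h1, hd, inv_mul_cancel_right]

/-- The slices `M₀ × {x}` give isomorphic restrictions. -/
theorem pl_sl_eq (θ : Pic M.left) (θJ : Pic J.left) (hfib : ∀ z : Pt M₀, pl (sr q z) θ = θJ) (x y : Pt J) :
    pl (sl q x) θ = pl (sl q y) θ := by
  have h1 := pl_q q θ θJ hfib y
  have h2 := congrArg (pl (lift (𝟙 M₀) (toUnit M₀ ≫ x))) h1
  rw [← pl_comp, map_mul, ← pl_comp, lift_fst, ← pl_comp, ← pl_comp, lift_snd, pl_const, mul_one,
    Category.id_comp] at h2
  exact h2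

variable {r : ℕ} {Θ : M.left.Modules} {L : J.left.Modules} (hΘ : PicF.IsInvertible Θ) (hL : PicF.IsInvertible L)

/-- `q^* Θ ≅ A ⊠ L^r`. -/
theorem exists_iso (hfib : ∀ z : Pt M₀, pl (sr q z) (mk Θ hΘ) = mk L hL ^ r) (x : Pt J) :
    Nonempty ((Scheme.Modules.pullback q.left).obj Θ ≅
      CohB1.tensorMod ((Scheme.Modules.pullback (fst M₀ J).left).obj ((Scheme.Modules.pullback (sl q x).left).obj Θ))
        ((Scheme.Modules.pullback (snd M₀ J).left).obj (CohB1.tensorPow L r))) := by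
  have h := pl_q q (mk Θ hΘ) (mk L hL ^ r) hfib x
  rw [← mk_tensorPow hL] at h
  have h1 := isInvertible_pullback q.left hΘ
  have h2 := isInvertible_pullback (fst M₀ J).left (isInvertible_pullback (sl q x).left hΘ)
  have h3 := isInvertible_pullback (snd M₀ J).left (isInvertible_tensorPow hL r)
  rw [← mk_eq_iff h1 (isInvertible_tensorMod h2 h3), ← mk_mul_mk h2 h3]
  exact h

end seesaw

variable [GrpObj J]

omit [IsAlgClosed k] [IsProper M₀.hom] [GeometricallyIntegral M₀.hom] in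
/-- The hypothesis on the fibres from one fibre, when the points of `M₀` are linked. -/
theorem pl_sr_of_lnk (θ : Pic M.left) (θJ : Pic J.left) {z₀ : Pt M₀} (hl : ∀ z : Pt M₀, Lnk M₀ z z₀)
    (h₀ : pl (sr q z₀) θ = θJ) (z : Pt M₀) : pl (sr q z) θ = θJ := by
  have hint := K319.Core.isIntegral_left J
  have h1 : ∀ z : Pt M₀, pl (sr q z) θ = pl (lift (𝟙 J) (toUnit J ≫ z)) (pl (lift (snd J M₀) (fst J M₀) ≫ q) θ) :=
    fun z => by
      rw [← pl_comp, ← Category.assoc, comp_lift, lift_snd, lift_fst]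
  rw [h1, ← h₀, h1 z₀]
  exact pl_eq_of_lnk J K319.Core.normal_of_grp _ (hl z)

variable {r : ℕ} {dm : M ⟶ J} (sq : IsPullback q (snd M₀ J) dm ((𝟙 J) ^ r : J ⟶ J))
  {Θ : M.left.Modules} {L : J.left.Modules} (hΘ : PicF.IsInvertible Θ) (hL : PicF.IsInvertible L)

include sq in
/-- The restriction to a slice has a nonzero section. -/
theorem exists_sec (hL : PicF.IsInvertible L) (hr : 1 ≤ r) (hΘ : PicF.IsInvertible Θ) (hfib : ∀ z : Pt M₀, pl (sr q z) (mk Θ hΘ) = mk L hL ^ r)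
    {I : M.left.IdealSheafData} (hI : ClSub.IsInverseOf Θ (ClSub.idealMod I)) (x : Pt J) :
    ∃ s : Coh.structureModule M₀.left ⟶ (Scheme.Modules.pullback (sl q x).left).obj Θ, s ≠ 0 := by
  have hint := K319.Core.isIntegral_left M₀
  have hsurj : Surjective ((𝟙 J) ^ r : J ⟶ J).left := Grpsch.MulFin.surjective_pow J r hr
  have hq : Surjective q.left := MorphismProperty.of_isPullback (sq.map (Over.forget _)).flip hsurj
  have hlft : LocallyOfFiniteType (M₀ ⊗ J).hom := by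
    have hfst : (fst M₀ J).left = pullback.fst M₀.hom J.hom := rfl
    have i2 : IsProper (fst M₀ J).left := by rw [hfst]; infer_instance
    rw [← Over.w (fst M₀ J)]
    infer_instance
  have hne : Nonempty (M₀ ⊗ J).left := by
    obtain ⟨m⟩ : Nonempty M₀.left := inferInstance
    exact ⟨(lift (𝟙 M₀) (toUnit M₀ ≫ x)).left m⟩
  obtain ⟨σ, y, hy⟩ := exists_section hI (q.left hne.some)
  obtain ⟨p, hp⟩ := hq.surj y
  obtain ⟨c, hc, w, -, t, ht⟩ := (dense_pts (A := M₀ ⊗ J)).inter_open_nonempty (q.left ⁻¹ᵁ CohB1.genLocus Θ σ)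
    (q.left ⁻¹ᵁ CohB1.genLocus Θ σ).2 ⟨p, by rw [SetLike.mem_coe, Scheme.Hom.mem_preimage, hp]; exact hy⟩
  have h1 : (w ≫ fst M₀ J) ≫ sl q (w ≫ snd M₀ J) = w ≫ q := by
    have h2 : (w ≫ fst M₀ J) ≫ lift (𝟙 M₀) (toUnit M₀ ≫ w ≫ snd M₀ J) = w := by
      apply CartesianMonoidalCategory.hom_ext
      · simp
      · rw [Category.assoc, lift_snd, ← Category.assoc, Subsingleton.elim ((w ≫ fst M₀ J) ≫ toUnit M₀) (𝟙 _),
          Category.id_comp]
    rw [← Category.assoc, h2]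
  obtain ⟨s, hs⟩ := exists_sec_pullback (sl q (w ≫ snd M₀ J)).left σ ((w ≫ fst M₀ J).left t) (by
    rw [← Scheme.Hom.comp_apply, ← Over.comp_left, h1, Over.comp_left, Scheme.Hom.comp_apply, ht]
    exact hc)
  have h3 := pl_sl_eq q (mk Θ hΘ) (mk L hL ^ r) hfib (w ≫ snd M₀ J) x
  obtain ⟨e⟩ := (mk_eq_iff (isInvertible_pullback _ hΘ) (isInvertible_pullback _ hΘ)).1 h3
  exact ⟨s ≫ e.hom, fun h0 => hs (by rwa [← cancel_mono e.hom, zero_comp])⟩

/-- The interface structure. -/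
def str (hr : 1 ≤ r) (hfib : ∀ z : Pt M₀, pl (sr q z) (mk Θ hΘ) = mk L hL ^ r)
    {I : M.left.IdealSheafData} (hI : ClSub.IsInverseOf Θ (ClSub.idealMod I)) (x : Pt J) : Str r dm Θ L where
  M₀ := M₀
  A := (Scheme.Modules.pullback (sl q x).left).obj Θ
  q := q
  inv := isInvertible_pullback _ hΘ
  proper := inferInstance
  gint := inferInstance
  sq := sq
  iso := exists_iso q hΘ hL hfib x
  sec := exists_sec q sq hL hr hΘ hfib hI x

/-- The interface structure, hypothesis on one point of `M₀`. -/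
def strOfLnk (hr : 1 ≤ r) {z₀ : Pt M₀} (hl : ∀ z : Pt M₀, Lnk M₀ z z₀) (hfib : pl (sr q z₀) (mk Θ hΘ) = mk L hL ^ r)
    {I : M.left.IdealSheafData} (hI : ClSub.IsInverseOf Θ (ClSub.idealMod I)) (x : Pt J) : Str r dm Θ L :=
  str q sq hΘ hL hr (pl_sr_of_lnk q (mk Θ hΘ) (mk L hL ^ r) hl hfib) hI x

end main

end

end K808.Seesaw
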